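import Mathlib

/-!
Tools for the prime graph of `PSL_n(q)`: the multiplicative order of `q` modulo a prime divides the
degree of a suitable irreducible factor of a minimal polynomial; block sums; passage between
`GL_n` and `PSL_n` for element orders prime to `q - 1`.
-/

set_option autoImplicit false

namespace Cfsg.Agent.Lib.PrimeGraphLinear

open Polynomial

variable {F : Type*} [Field F]

/-- If `M ^ (r m) = 1 ≠ M ^ m`, some irreducible factor of the minimal polynomial has a root whose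
`m`-th power has order `r`. -/
theorem exists_factor {ι : Type*} [Fintype ι] [DecidableEq ι] (M : Matrix ι ι F) {r m : ℕ}
    (hr : (r : F) ≠ 0) (h1 : M ^ (r * m) = 1) (h2 : M ^ m ≠ 1) :
    ∃ f : F[X], Irreducible f ∧ f ∣ minpoly F M ∧ f ∣ X ^ (r * m) - 1 ∧ ¬ f ∣ X ^ m - 1 := by
  set P := minpoly F M with hP
  set S : F[X] := ∑ i ∈ Finset.range r, (X ^ m) ^ i with hS
  have hmul : S * (X ^ m - 1) = X ^ (r * m) - 1 := by
    rw [hS, geom_sum_mul, ← pow_mul, mul_comm m r]
  have hPS : P ∣ S * (X ^ m - 1) := by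
    rw [hmul]; exact minpoly.dvd F M (by simp [h1])
  have hnot : ¬ IsCoprime P S := fun hco => by
    have hd := hco.dvd_of_dvd_mul_left hPS
    apply h2
    obtain ⟨c, hc⟩ := hd
    have := congrArg (aeval M) hc
    simpa [hP, minpoly.aeval, sub_eq_zero] using this
  obtain ⟨f, hf, hfP, hfS⟩ : ∃ f, Irreducible f ∧ f ∣ P ∧ f ∣ S := by
    by_contra hcon
    push Not at hcon
    exact hnot (isCoprime_of_irreducible_dvd (fun h => minpoly.ne_zero (IsIntegral.of_finite F M) h.1) hcon)
  refine ⟨f, hf, hfP, hmul ▸ hfS.trans (dvd_mul_right S _), fun hd => ?_⟩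
  have h3 : (X ^ m - 1 : F[X]) ∣ S - C (r : F) := by
    have e : S - C (r : F) = ∑ i ∈ Finset.range r, ((X ^ m) ^ i - 1) := by
      rw [Finset.sum_sub_distrib, hS]
      simp
    rw [e]
    exact Finset.dvd_sum fun i _ => sub_one_dvd_pow_sub_one _ i
  have h4 : f ∣ C (r : F) := by
    have := dvd_sub hfS (hd.trans h3)
    rwa [sub_sub_cancel] at this
  exact hf.not_isUnit (isUnit_of_dvd_unit h4 (isUnit_C.2 (Ne.isUnit hr)))

/-- The order of `q` modulo `r` divides the degree of such a factor. -/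
theorem orderOf_dvd_natDegree [Fintype F] {f : F[X]} (hf : Irreducible f) {r m : ℕ} (hr : r.Prime)
    (h1 : f ∣ X ^ (r * m) - 1) (h2 : ¬ f ∣ X ^ m - 1) :
    orderOf ((Fintype.card F : ℕ) : ZMod r) ∣ f.natDegree := by
  have : Fact (Irreducible f) := ⟨hf⟩
  have : Fact r.Prime := ⟨hr⟩
  let pb := AdjoinRoot.powerBasis hf.ne_zero
  have : Module.Finite F (AdjoinRoot f) := pb.finite
  have : Finite (AdjoinRoot f) := Module.finite_of_finite F
  let _ : Fintype (AdjoinRoot f) := Fintype.ofFinite _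
  have hcard : Fintype.card (AdjoinRoot f) = Fintype.card F ^ f.natDegree := by
    rw [Module.card_eq_pow_finrank (K := F), pb.finrank, AdjoinRoot.powerBasis_dim hf.ne_zero]
  have hmk : ∀ k : ℕ, AdjoinRoot.root f ^ k = 1 ↔ f ∣ (X ^ k - 1) := by
    intro k
    rw [← AdjoinRoot.mk_eq_zero, map_sub, map_pow, map_one, AdjoinRoot.mk_X, sub_eq_zero]
  set β := AdjoinRoot.root f ^ m with hβ
  have hβr : β ^ r = 1 := by rw [hβ, ← pow_mul, mul_comm]; exact (hmk _).2 h1
  have hord : orderOf β = r := orderOf_eq_prime hβr (fun h => h2 ((hmk _).1 h))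
  have hβ0 : β ≠ 0 := fun h => by simp [h, zero_pow hr.ne_zero] at hβr
  have hd : r ∣ Fintype.card F ^ f.natDegree - 1 := by
    rw [← hcard, ← hord]
    exact orderOf_dvd_of_pow_eq_one (FiniteField.pow_card_sub_one_eq_one β hβ0)
  apply orderOf_dvd_of_pow_eq_one
  rw [← Nat.cast_pow]
  exact (ZMod.natCast_eq_natCast_iff _ 1 r).2 ((Nat.modEq_iff_dvd' (Nat.one_le_pow _ _ Fintype.card_pos)).2 hd).symm |>.trans
    Nat.cast_one

theorem natDegree_le_card {ι : Type*} [Fintype ι] [DecidableEq ι] (M : Matrix ι ι F) {f : F[X]}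
    (h : f ∣ minpoly F M) : f.natDegree ≤ Fintype.card ι :=
  (natDegree_le_of_dvd (h.trans (Matrix.minpoly_dvd_charpoly M)) M.charpoly_monic.ne_zero).trans_eq
    M.charpoly_natDegree_eq_dim

theorem natDegree_add_le_card {ι : Type*} [Fintype ι] [DecidableEq ι] (M : Matrix ι ι F) {f g : F[X]}
    (hf : f ∣ minpoly F M) (hg : g ∣ minpoly F M) (hco : IsCoprime f g) :
    f.natDegree + g.natDegree ≤ Fintype.card ι := by
  have h0 : f * g ≠ 0 := fun h => minpoly.ne_zero (IsIntegral.of_finite F M)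
    (by simpa [h] using hco.mul_dvd hf hg)
  rw [← natDegree_mul (left_ne_zero_of_mul h0) (right_ne_zero_of_mul h0)]
  exact natDegree_le_card M (hco.mul_dvd hf hg)

theorem orderOf_cast_pos [Fintype F] {r : ℕ} (hr : r.Prime) (h : (r : F) ≠ 0) :
    0 < orderOf ((Fintype.card F : ℕ) : ZMod r) := by
  have : Fact r.Prime := ⟨hr⟩
  refine orderOf_pos_iff.2 (isOfFinOrder_iff_pow_eq_one.2
    ⟨r - 1, Nat.sub_pos_of_lt hr.one_lt, ZMod.pow_card_sub_one_eq_one ?_⟩)
  intro h0
  obtain ⟨p, hp⟩ := CharP.exists F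
  obtain ⟨a, hp', ha⟩ := FiniteField.card F p
  rw [ZMod.natCast_eq_zero_iff, ha] at h0
  rw [(Nat.prime_dvd_prime_iff_eq hr hp').1 (hr.dvd_of_dvd_pow h0)] at h
  exact h (CharP.cast_eq_zero F p)

/-- Block sums in `GL_n`. -/
theorem exists_orderOf_dvd_sum {a b n : ℕ} (h : a + b ≤ n) (g : GL (Fin a) F) (k : GL (Fin b) F) :
    ∃ x : GL (Fin n) F, orderOf g ∣ orderOf x ∧ orderOf k ∣ orderOf x := by
  classical
  let e : (Fin a ⊕ Fin b) ⊕ Fin (n - (a + b)) ≃ Fin n :=
    ((finSumFinEquiv.sumCongr (Equiv.refl _)).trans finSumFinEquiv).trans (finCongr (by omega))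
  let ψ : Matrix (Fin a) (Fin a) F × Matrix (Fin b) (Fin b) F →*
      Matrix ((Fin a ⊕ Fin b) ⊕ Fin (n - (a + b))) ((Fin a ⊕ Fin b) ⊕ Fin (n - (a + b))) F :=
    { toFun := fun p => Matrix.fromBlocks (Matrix.fromBlocks p.1 0 0 p.2) 0 0 1
      map_one' := by simp [Matrix.fromBlocks_one]
      map_mul' := fun p p' => by simp [Matrix.fromBlocks_multiply] }
  let φ := (Matrix.reindexAlgEquiv F F e).toMonoidHom.comp ψ
  have hφ : Function.Injective φ := fun p p' hp => by
    have h1 : ψ p = ψ p' := (Matrix.reindexAlgEquiv F F e).injective hp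
    have h2 := congrArg Matrix.toBlocks₁₁ h1
    simp only [ψ, MonoidHom.coe_mk, OneHom.coe_mk, Matrix.toBlocks_fromBlocks₁₁] at h2
    exact Prod.ext (by simpa using congrArg Matrix.toBlocks₁₁ h2) (by simpa using congrArg Matrix.toBlocks₂₂ h2)
  have hu : IsUnit (φ ((g : Matrix (Fin a) (Fin a) F), (k : Matrix (Fin b) (Fin b) F))) :=
    (Prod.isUnit_iff.2 ⟨g.isUnit, k.isUnit⟩).map φ
  refine ⟨hu.unit, ?_⟩
  have ho : orderOf hu.unit = Nat.lcm (orderOf g) (orderOf k) := by
    rw [← orderOf_units, IsUnit.unit_spec, orderOf_injective φ hφ, Prod.orderOf, orderOf_units, orderOf_units]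
  rw [ho]
  exact ⟨Nat.dvd_lcm_left _ _, Nat.dvd_lcm_right _ _⟩

section PSL

variable [Fintype F] {n : ℕ}

local notation "L'" => Matrix.ProjectiveSpecialLinearGroup (Fin n) F

/-- For `N` prime to `q - 1`, `PSL_n` and `GL_n` have elements of order `N` simultaneously. -/
theorem exists_orderOf_PSL_iff {N : ℕ} (hN : N.Coprime (Fintype.card F - 1)) :
    (∃ x : L', orderOf x = N) ↔ ∃ g : GL (Fin n) F, orderOf g = N := by
  classical
  constructor
  · rintro ⟨x, hx⟩
    obtain ⟨g, rfl⟩ := QuotientGroup.mk_surjective x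
    have hc : g ^ N ∈ Subgroup.center _ := (QuotientGroup.eq_one_iff _).1
      ((QuotientGroup.mk_pow _ g N).trans (hx ▸ pow_orderOf_eq_one _))
    obtain ⟨c, hcn, hcg⟩ := Matrix.SpecialLinearGroup.mem_center_iff.1 hc
    have hgN : (g ^ (Fintype.card F - 1)) ^ N = 1 := by
      rw [← pow_mul, mul_comm, pow_mul]
      apply Subtype.ext
      rw [Matrix.SpecialLinearGroup.coe_pow, ← hcg, ← map_pow]
      rcases eq_or_ne c 0 with h0 | h0
      · rcases Nat.eq_zero_or_pos n with hn | hn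
        · subst hn; exact Subsingleton.elim _ _
        · rw [h0, Fintype.card_fin, zero_pow hn.ne'] at hcn
          exact absurd hcn zero_ne_one
      · rw [FiniteField.pow_card_sub_one_eq_one c h0, map_one]; rfl
    have ho : orderOf (QuotientGroup.mk (g ^ (Fintype.card F - 1)) : L') = N := by
      rw [QuotientGroup.mk_pow, Nat.Coprime.orderOf_pow (by rwa [hx]), hx]
    refine ⟨Matrix.SpecialLinearGroup.toGL (g ^ (Fintype.card F - 1)), ?_⟩
    rw [orderOf_injective _ Matrix.SpecialLinearGroup.toGL_injective]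
    refine Nat.dvd_antisymm (orderOf_dvd_of_pow_eq_one hgN) ?_
    conv_lhs => rw [← ho]
    exact orderOf_map_dvd (QuotientGroup.mk' (Subgroup.center _)) _
  · rintro ⟨g, hg⟩
    have hdet : Matrix.GeneralLinearGroup.det g = 1 := by
      have h1 : Matrix.GeneralLinearGroup.det g ^ N = 1 := by
        rw [← map_pow, ← hg, pow_orderOf_eq_one, map_one]
      have h2 : Matrix.GeneralLinearGroup.det g ^ (Fintype.card F - 1) = 1 := by
        rw [← Fintype.card_units]; exact pow_card_eq_one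
      have h3 := pow_gcd_eq_one.2 ⟨h1, h2⟩
      rwa [hN.gcd_eq_one, pow_one] at h3
    let s : Matrix.SpecialLinearGroup (Fin n) F :=
      ⟨(g : Matrix (Fin n) (Fin n) F), by simpa using congrArg Units.val hdet⟩
    have hs : orderOf s = N := by
      rw [← orderOf_injective _ Matrix.SpecialLinearGroup.toGL_injective s, ← hg]
      exact congrArg orderOf (Units.ext rfl)
    refine ⟨QuotientGroup.mk s, Nat.dvd_antisymm (hs ▸ orderOf_map_dvd (QuotientGroup.mk' (Subgroup.center _)) s) ?_⟩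
    set e := orderOf (QuotientGroup.mk s : L') with he
    have hc : s ^ e ∈ Subgroup.center _ := (QuotientGroup.eq_one_iff _).1
      ((QuotientGroup.mk_pow _ s e).trans (pow_orderOf_eq_one _))
    have h1 : (s ^ e) ^ N = 1 := by rw [← pow_mul, mul_comm, pow_mul, ← hs, pow_orderOf_eq_one, one_pow]
    have h2 : (s ^ e) ^ (Fintype.card F - 1) = 1 := by
      obtain ⟨c, hcn, hcg⟩ := Matrix.SpecialLinearGroup.mem_center_iff.1 hc
      apply Subtype.ext
      rw [Matrix.SpecialLinearGroup.coe_pow, ← hcg, ← map_pow]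
      rcases eq_or_ne c 0 with h0 | h0
      · rcases Nat.eq_zero_or_pos n with hn | hn
        · subst hn; exact Subsingleton.elim _ _
        · rw [h0, Fintype.card_fin, zero_pow hn.ne'] at hcn
          exact absurd hcn zero_ne_one
      · rw [FiniteField.pow_card_sub_one_eq_one c h0, map_one]; rfl
    have h3 := pow_gcd_eq_one.2 ⟨h1, h2⟩
    rw [hN.gcd_eq_one, pow_one] at h3
    rw [← hs]
    exact orderOf_dvd_of_pow_eq_one h3

end PSL

end Cfsg.Agent.Lib.PrimeGraphLinear
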