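import Cfsg.Prelude.Def_Classical
import Cfsg.Agent.Lib.PrimeGraphLinear.Basic
import Cfsg.Agent.Lib.ElementOrders.UnitaryDichotomy
import Cfsg.Agent.Lib.ElementOrders.SympTorus
import Cfsg.Agent.Lib.Classical.Symplectic

/-!
Tools for the prime graph of `PSp_{2n}(q)`: dual pairs of irreducible factors of the minimal
polynomial of a symplectic matrix, torus elements, element orders modulo the centre.
-/

set_option autoImplicit false

namespace Cfsg.Agent.Lib.PrimeGraphLinear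

open Polynomial Matrix

variable {F : Type*} [Field F] {n : ℕ}

theorem exists_orderOf_quotient_iff {G : Type*} [Group G] [Finite G] (Z : Subgroup G) [Z.Normal] {N : ℕ}
    (hN : N.Coprime (Nat.card Z)) : (∃ x : G ⧸ Z, orderOf x = N) ↔ ∃ g : G, orderOf g = N := by
  constructor
  · rintro ⟨x, rfl⟩
    obtain ⟨g, rfl⟩ := QuotientGroup.mk_surjective x
    set N := orderOf (QuotientGroup.mk g : G ⧸ Z) with hNdef
    have hd : N ∣ orderOf g := orderOf_map_dvd (QuotientGroup.mk' Z) g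
    exact ⟨g ^ (orderOf g / N), orderOf_pow_orderOf_div (orderOf_pos g).ne' hd⟩
  · rintro ⟨g, rfl⟩
    refine ⟨QuotientGroup.mk g, Nat.dvd_antisymm (orderOf_map_dvd (QuotientGroup.mk' Z) g) ?_⟩
    set e := orderOf (QuotientGroup.mk g : G ⧸ Z) with he
    have hmem : g ^ e ∈ Z := (QuotientGroup.eq_one_iff _).1
      ((QuotientGroup.mk_pow _ g e).trans (pow_orderOf_eq_one _))
    have h1 : (g ^ e) ^ Nat.card Z = 1 := by
      have := congrArg Subtype.val (pow_card_eq_one' (x := (⟨g ^ e, hmem⟩ : Z)))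
      rw [SubmonoidClass.coe_pow] at this
      exact this
    have h2 : (g ^ e) ^ orderOf g = 1 := by rw [← pow_mul, mul_comm, pow_mul, pow_orderOf_eq_one, one_pow]
    have h3 := pow_gcd_eq_one.2 ⟨h2, h1⟩
    rw [hN.gcd_eq_one, pow_one] at h3
    exact orderOf_dvd_of_pow_eq_one h3

theorem natCast_ne_zero_of_ne {p r : ℕ} [Fact p.Prime] [CharP F p] (hr : r.Prime) (hrp : r ≠ p) : (r : F) ≠ 0 := by
  rw [Ne, CharP.cast_eq_zero_iff F p, Nat.prime_dvd_prime_iff_eq (Fact.out : p.Prime) hr]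
  exact fun h => hrp h.symm

theorem two_zmod_ne {r : ℕ} (hr : r.Prime) (hr2 : r ≠ 2) : (-1 : ZMod r) ≠ 1 := by
  have : Fact (2 < r) := ⟨lt_of_le_of_ne hr.two_le (Ne.symm hr2)⟩
  exact ZMod.neg_one_ne_one

/-- If a power is `-1` then the order is even, divides twice the exponent but not the exponent. -/
theorem order_of_pow_eq_neg_one {r j k : ℕ} (hr : r.Prime) (hr2 : r ≠ 2) {x : ZMod r} (hk : k = orderOf x)
    (hj : x ^ j = -1) : Even k ∧ k ∣ 2 * j ∧ ¬ k ∣ j := by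
  have h2 : k ∣ 2 * j := by
    rw [hk]; exact orderOf_dvd_of_pow_eq_one (by rw [mul_comm, pow_mul, hj, neg_one_sq])
  have h1 : ¬ k ∣ j := fun h => two_zmod_ne hr hr2 (by rw [← hj]; exact orderOf_dvd_iff_pow_eq_one.1 (hk ▸ h))
  refine ⟨?_, h2, h1⟩
  rcases Nat.even_or_odd k with h | h
  · exact h
  · exact absurd ((Nat.Coprime.dvd_mul_left (Nat.coprime_two_right.2 h)).1 h2) h1

theorem pow_half_eq_neg_one {r k ηk : ℕ} (hr : r.Prime) {x : ZMod r} (hk : k = orderOf x) (hη : 2 * ηk = k)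
    (h0 : 0 < k) : x ^ ηk = -1 := by
  have : Fact r.Prime := ⟨hr⟩
  have h : (x ^ ηk) * (x ^ ηk) = 1 := by rw [← pow_add, ← two_mul, hη, hk, pow_orderOf_eq_one]
  rcases mul_self_eq_one_iff.1 h with h1 | h1
  · exfalso
    have := Nat.le_of_dvd (by omega) (hk ▸ orderOf_dvd_of_pow_eq_one h1 : k ∣ ηk)
    omega
  · exact h1

/-- The eigenvalues of a symplectic matrix come in inverse pairs. -/
theorem symp_minpoly_inverse {g : Matrix (Fin n ⊕ Fin n) (Fin n ⊕ Fin n) F}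
    (hg : g ∈ Matrix.symplecticGroup (Fin n) F) :
    aeval g (minpoly F g).reverse = 0 := by
  set J0 := J (Fin n) F with hJ0
  let u : (Matrix (Fin n ⊕ Fin n) (Fin n ⊕ Fin n) F)ˣ :=
    Units.map (Matrix.symplecticGroup (Fin n) F).subtype (toUnits (⟨g, hg⟩ : Matrix.symplecticGroup (Fin n) F))
  set g' : Matrix (Fin n ⊕ Fin n) (Fin n ⊕ Fin n) F := Units.val u⁻¹ with hg'
  have hgg' : g * g' = 1 := u.mul_inv
  have hadj : (aeval g (minpoly F g))ᵀ * J0 = J0 * aeval g' (minpoly F g) := by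
    rw [Cfsg.Agent.Lib.ElementOrders.transpose_aeval]
    apply Cfsg.Agent.Lib.ElementOrders.aeval_comm_of_intertwine
    have h := SymplecticGroup.mem_iff'.1 hg
    calc gᵀ * J0 = gᵀ * J0 * (g * g') := by rw [hgg', Matrix.mul_one]
      _ = J0 * g' := by rw [← Matrix.mul_assoc, h]
  rw [minpoly.aeval, Matrix.transpose_zero, Matrix.zero_mul] at hadj
  have h0 : aeval g' (minpoly F g) = 0 := by
    have h2 := congrArg (fun X => J0 * X) hadj.symm
    simp only [hJ0, ← Matrix.mul_assoc, Matrix.J_squared, Matrix.mul_zero, neg_mul, Matrix.one_mul] at h2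
    exact neg_eq_zero.1 h2
  have hg'g : g' * g = 1 := u.inv_mul
  have hc : Commute g g' := hgg'.trans hg'g.symm
  have h3 : aeval g (minpoly F g).reverse * g' ^ (minpoly F g).natDegree = 0 := by
    set P := minpoly F g with hP
    set d := P.natDegree with hd
    rw [← h0, aeval_eq_sum_range' (p := P.reverse) (Nat.lt_succ_of_le (reverse_natDegree_le P)),
      aeval_eq_sum_range' (p := P) (Nat.lt_succ_self _), Finset.sum_mul, ← Finset.sum_range_reflect]
    refine Finset.sum_congr rfl fun i hi => ?_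
    rw [Finset.mem_range] at hi
    rw [show d.succ - 1 - i = d - i by omega, smul_mul_assoc, coeff_reverse, revAt_le (Nat.sub_le _ _),
      show d - (d - i) = i by omega]
    congr 1
    obtain ⟨j, hj⟩ := Nat.exists_eq_add_of_le (Nat.lt_succ_iff.1 hi)
    rw [show d = i + j from hj, Nat.add_sub_cancel_left, Nat.add_comm i j, pow_add g' j i, ← Matrix.mul_assoc, ← hc.mul_pow, hgg', one_pow,
      Matrix.one_mul]
  have h4 := congrArg (fun X => X * g ^ (minpoly F g).natDegree) h3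
  simp only [Matrix.mul_assoc, Matrix.zero_mul] at h4
  rw [← hc.symm.mul_pow, hg'g, one_pow, Matrix.mul_one] at h4
  exact h4

/-- The dual factor of an irreducible factor of the minimal polynomial of a symplectic matrix. -/
theorem exists_dual [Fintype F] {g : Matrix (Fin n ⊕ Fin n) (Fin n ⊕ Fin n) F}
    (hg : g ∈ Matrix.symplecticGroup (Fin n) F) {f : F[X]} (hf : Irreducible f) (hfm : f.Monic)
    (hfP : f ∣ minpoly F g) :
    ∃ f' : F[X], Irreducible f' ∧ f'.Monic ∧ f' ∣ minpoly F g ∧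
      (∀ e : ℕ, f' ∣ X ^ e - 1 ↔ f ∣ X ^ e - 1) ∧
      (f' = f → ∃ j : ℕ, ∀ r m : ℕ, r.Prime → f ∣ X ^ (r * m) - 1 → ¬ f ∣ X ^ m - 1 →
        ((Fintype.card F : ℕ) : ZMod r) ^ j = -1) := by
  have : Fact (Irreducible f) := ⟨hf⟩
  let pb := AdjoinRoot.powerBasis hf.ne_zero
  have : Module.Finite F (AdjoinRoot f) := pb.finite
  set α := AdjoinRoot.root f with hα
  have hmk : ∀ P : F[X], f ∣ P ↔ aeval α P = 0 := fun P => by
    rw [hα, AdjoinRoot.aeval_eq, AdjoinRoot.mk_eq_zero]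
  have hα0 : α ≠ 0 := by
    intro h0
    have hX : f ∣ X := (hmk X).2 (by rw [aeval_X, h0])
    have hXP : (X : F[X]) ∣ minpoly F g :=
      (hf.associated_of_dvd irreducible_X hX).symm.dvd.trans hfP
    obtain ⟨c, hc⟩ := hXP
    have hz := minpoly.aeval F g
    rw [hc, map_mul, aeval_X] at hz
    have hu : IsUnit g :=
      (toUnits (⟨g, hg⟩ : Matrix.symplecticGroup (Fin n) F)).isUnit.map (Matrix.symplecticGroup (Fin n) F).subtype
    rw [hu.mul_right_eq_zero] at hz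
    have hc0 : c ≠ 0 := fun h => minpoly.ne_zero (IsIntegral.of_finite F g) (by rw [hc, h, mul_zero])
    have hdeg := natDegree_le_of_dvd (minpoly.dvd F g hz) hc0
    rw [hc, natDegree_mul X_ne_zero hc0, natDegree_X] at hdeg
    omega
  have hint : IsIntegral F α⁻¹ := IsIntegral.of_finite F _
  have hroot : aeval α⁻¹ (minpoly F g) = 0 := by
    have h1 : f ∣ minpoly F g := hfP
    have h2 : aeval α (minpoly F g).reverse = 0 := by
      refine (hmk _).1 (h1.trans (minpoly.dvd F g (symp_minpoly_inverse hg)))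
    let _ : Invertible α⁻¹ := invertibleOfNonzero (inv_ne_zero hα0)
    have h3 := eval₂_reverse_mul_pow (algebraMap F (AdjoinRoot f)) α⁻¹ (minpoly F g)
    rw [invOf_eq_inv, inv_inv, ← aeval_def, ← aeval_def, h2, zero_mul] at h3
    exact h3.symm
  refine ⟨minpoly F α⁻¹, minpoly.irreducible hint, minpoly.monic hint, minpoly.dvd F α⁻¹ hroot, fun e => ?_, ?_⟩
  · rw [minpoly.dvd_iff, hmk]
    simp only [map_sub, map_pow, aeval_X, map_one, sub_eq_zero, inv_pow, inv_eq_one]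
  · intro hself
    have h1 : aeval α⁻¹ f = 0 :=
      (congrArg (fun P : F[X] => aeval α⁻¹ P) hself).symm.trans (minpoly.aeval F α⁻¹)
    obtain ⟨i, -, hi⟩ := Cfsg.Agent.Lib.ElementOrders.exists_root_eq_pow α⁻¹ h1
    refine ⟨i, fun r m hr hd hnd => ?_⟩
    have : Fact r.Prime := ⟨hr⟩
    have e1 : α ^ (Fintype.card F ^ i + 1) = 1 := by rw [pow_succ, ← hi, inv_mul_cancel₀ hα0]
    have hord : orderOf (α ^ m) = r := by
      refine orderOf_eq_prime ?_ ?_
      · rw [← pow_mul, mul_comm, ← sub_eq_zero]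
        simpa using (hmk _).1 hd
      · intro h
        exact hnd ((hmk _).2 (by simp [h]))
    have h2 : r ∣ Fintype.card F ^ i + 1 := by
      rw [← hord]
      exact orderOf_dvd_of_pow_eq_one (by rw [← pow_mul, mul_comm, pow_mul, e1, one_pow])
    rw [eq_neg_iff_add_eq_zero, ← Nat.cast_pow, ← Nat.cast_one, ← Nat.cast_add, ZMod.natCast_eq_zero_iff]
    exact h2

theorem isCoprime_of_monic_ne {f g : F[X]} (hf : Irreducible f) (hg : Irreducible g) (hfm : f.Monic) (hgm : g.Monic)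
    (h : f ≠ g) : IsCoprime f g :=
  hf.coprime_iff_not_dvd.2 fun hd => h (eq_of_monic_of_associated hfm hgm (hf.associated_of_dvd hg hd))

/-- The span of an irreducible factor: the product with its dual if different. -/
theorem exists_selfdual_span [Fintype F] {g : Matrix (Fin n ⊕ Fin n) (Fin n ⊕ Fin n) F}
    (hg : g ∈ Matrix.symplecticGroup (Fin n) F) {f : F[X]} (hf : Irreducible f) (hfm : f.Monic)
    (hfP : f ∣ minpoly F g) :
    ∃ D : F[X], D ∣ minpoly F g ∧ f ∣ D ∧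
      (∀ h : F[X], Irreducible h → h.Monic → h ∣ D → ∀ e : ℕ, h ∣ X ^ e - 1 ↔ f ∣ X ^ e - 1) ∧
      (D.natDegree = f.natDegree ∧ (∃ j : ℕ, ∀ r m : ℕ, r.Prime → f ∣ X ^ (r * m) - 1 → ¬ f ∣ X ^ m - 1 →
          ((Fintype.card F : ℕ) : ZMod r) ^ j = -1) ∨
        ∃ f' : F[X], Irreducible f' ∧ f'.Monic ∧ f' ≠ f ∧ (∀ e : ℕ, f' ∣ X ^ e - 1 ↔ f ∣ X ^ e - 1) ∧ D = f * f') := by
  obtain ⟨f', hf', hfm', hfP', heq, hj⟩ := exists_dual hg hf hfm hfP
  by_cases h : f' = f
  · refine ⟨f, hfP, dvd_rfl, fun h' hh' hhm' hd e => ?_, Or.inl ⟨rfl, hj h⟩⟩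
    rw [eq_of_monic_of_associated hhm' hfm (hh'.associated_of_dvd hf hd)]
  · refine ⟨f * f', (isCoprime_of_monic_ne hf hf' hfm hfm' (Ne.symm h)).mul_dvd hfP hfP', dvd_mul_right f f',
      fun h' hh' hhm' hd e => ?_, Or.inr ⟨f', hf', hfm', h, heq, rfl⟩⟩
    rcases hh'.prime.dvd_or_dvd hd with hd | hd
    · rw [eq_of_monic_of_associated hhm' hfm (hh'.associated_of_dvd hf hd)]
    · rw [eq_of_monic_of_associated hhm' hfm' (hh'.associated_of_dvd hf' hd), heq]

/-- A factor carrying order `r` spans at least `2 η(k)` dimensions. -/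
theorem two_mul_le_natDegree_span [Fintype F] {f D : F[X]} (hf : Irreducible f) {r m k ηk : ℕ} (hr : r.Prime)
    (hr2 : r ≠ 2) (hk : k = orderOf ((Fintype.card F : ℕ) : ZMod r))
    (hηk : (Odd k ∧ ηk = k) ∨ (Even k ∧ 2 * ηk = k))
    (h1 : f ∣ X ^ (r * m) - 1) (h2 : ¬ f ∣ X ^ m - 1)
    (hD : D.natDegree = f.natDegree ∧ (∃ j : ℕ, ∀ r m : ℕ, r.Prime → f ∣ X ^ (r * m) - 1 → ¬ f ∣ X ^ m - 1 →
          ((Fintype.card F : ℕ) : ZMod r) ^ j = -1) ∨
        ∃ f' : F[X], Irreducible f' ∧ f'.Monic ∧ f' ≠ f ∧ (∀ e : ℕ, f' ∣ X ^ e - 1 ↔ f ∣ X ^ e - 1) ∧ D = f * f') :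
    2 * ηk ≤ D.natDegree := by
  have hkf := Nat.le_of_dvd hf.natDegree_pos (hk ▸ orderOf_dvd_natDegree hf hr h1 h2)
  rcases hD with ⟨hd, j, hj⟩ | ⟨f', hf', -, -, heq, rfl⟩
  · obtain ⟨hev, -, -⟩ := order_of_pow_eq_neg_one hr hr2 hk (hj r m hr h1 h2)
    rcases hηk with ⟨hodd, -⟩ | ⟨-, h⟩
    · exact absurd hev (Nat.not_even_iff_odd.2 hodd)
    · omega
  · have hkf' := Nat.le_of_dvd hf'.natDegree_pos
      (hk ▸ orderOf_dvd_natDegree hf' hr ((heq _).2 h1) (fun h => h2 ((heq _).1 h)))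
    rw [natDegree_mul hf.ne_zero hf'.ne_zero]
    rcases hηk with ⟨-, h⟩ | ⟨-, h⟩ <;> omega

/-- An element of `Sp_{2d}(q)` of order divisible by `r`, when `r ∣ q ^ d ± 1`. -/
theorem exists_symp_dvd [Fintype F] {r d : ℕ} (hd : 1 ≤ d)
    (h : ((Fintype.card F : ℕ) : ZMod r) ^ d = -1 ∨ ((Fintype.card F : ℕ) : ZMod r) ^ d = 1) :
    (∃ g : Matrix.symplecticGroup (Fin d) F, orderOf g = Fintype.card F ^ d + 1 ∧ r ∣ orderOf g) ∨
    (∃ g : Matrix.symplecticGroup (Fin d) F, orderOf g = Fintype.card F ^ d - 1 ∧ r ∣ orderOf g) := by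
  obtain ⟨⟨a, ha⟩, ⟨b, hb⟩⟩ := Cfsg.Agent.Lib.ElementOrders.exists_symp_torus (F := F) hd
  rcases h with h | h
  · refine Or.inl ⟨b, hb, hb ▸ ?_⟩
    rw [← ZMod.natCast_eq_zero_iff, Nat.cast_add, Nat.cast_pow, h, Nat.cast_one, neg_add_cancel]
  · refine Or.inr ⟨a, ha, ha ▸ ?_⟩
    rw [← ZMod.natCast_eq_zero_iff, Nat.cast_sub (Nat.one_le_pow _ _ Fintype.card_pos), Nat.cast_pow, h,
      Nat.cast_one, sub_self]

/-- Orthogonal sums padded to any larger rank. -/
theorem exists_symp_pad {a b n : ℕ} (h : a + b ≤ n) (x : Matrix.symplecticGroup (Fin a) F)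
    (y : Matrix.symplecticGroup (Fin b) F) :
    ∃ z : Matrix.symplecticGroup (Fin n) F, orderOf x ∣ orderOf z ∧ orderOf y ∣ orderOf z := by
  obtain ⟨c, rfl⟩ := Nat.exists_eq_add_of_le h
  obtain ⟨φ, hφ, -⟩ := Cfsg.Agent.Lib.ElementOrders.exists_symp_sum (F := F) a b
  obtain ⟨ψ, hψ, -⟩ := Cfsg.Agent.Lib.ElementOrders.exists_symp_sum (F := F) (a + b) c
  refine ⟨ψ (φ (x, y), 1), ?_⟩
  rw [orderOf_injective ψ hψ, Prod.orderOf, orderOf_one, Nat.lcm_one_right, orderOf_injective φ hφ, Prod.orderOf]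
  exact ⟨Nat.dvd_lcm_left _ _, Nat.dvd_lcm_right _ _⟩

theorem coprime_card_center_symp [Fintype F] (hn : 1 ≤ n) {N : ℕ} (h : N.Coprime (Nat.gcd 2 (Fintype.card F - 1))) :
    N.Coprime (Nat.card (Subgroup.center (Matrix.symplecticGroup (Fin n) F))) := by
  rwa [Cfsg.Agent.Lib.Classical.natCard_center_symplecticGroup n hn]

end Cfsg.Agent.Lib.PrimeGraphLinear
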